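import Cfsg.Agent.H844.K5.Base
import Cfsg.Agent.GH.Defs
import Cfsg.Agent.Cit.HexG2
import Cfsg.Agent.Cit.HexD4
import Cfsg.Agent.Cit.HexCent2

/-!
# `G₂(q)` and `³D₄(q)`, `q` odd, are rich (helper234, S4874)

An element `x` of order 4 in the short root `SL₂` and its square `z`: both centralizers contain the orthogonal long root
`SL₂(q)`, which is generated by elements of odd order, so both have weight 2.
-/

set_option autoImplicit false
set_option linter.unusedSectionVars false

open Cfsg

namespace Cfsg.Agent.H234.K5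

open Cfsg.Agent.H844.K5 Cfsg.Agent.H634 Cfsg.Agent.GH.Defs Cfsg.Agent.Cit.HexBase Cfsg.Agent.Lib.SL2Mat

section sl

variable {K : Type*} [Field K] [Finite K]

theorem odd_card (h2 : (2 : K) ≠ 0) : Odd (Nat.card K) := by
  have := Fintype.ofFinite K
  rw [Nat.card_eq_fintype_card]
  refine Nat.odd_iff.2 (FiniteField.odd_card_of_char_ne_two fun h => h2 ?_)
  have h3 := ringChar.Nat.cast_ringChar (R := K)
  rw [h] at h3
  exact_mod_cast h3

theorem up_pow (a : K) (n : ℕ) : up a ^ n = up (n • a) := by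
  induction n with
  | zero => rw [pow_zero, zero_smul, up_zero]
  | succ n ih => rw [pow_succ, ih, up_mul, succ_nsmul]

theorem lo_pow (a : K) (n : ℕ) : lo a ^ n = lo (n • a) := by
  induction n with
  | zero => rw [pow_zero, zero_smul, lo_zero]
  | succ n ih => rw [pow_succ, ih, lo_mul, succ_nsmul]

theorem card_smul (a : K) : Nat.card K • a = 0 := by
  have := Fintype.ofFinite K
  rw [Nat.card_eq_fintype_card, nsmul_eq_mul, FiniteField.cast_card_eq_zero, zero_mul]

/-- `SL₂(q)`, `q` odd, has no normal 2-complement -/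
theorem not_compl_sl2 (h2 : (2 : K) ≠ 0) : ¬ HasNormalPComplement 2 (SL2 K) := by
  have : Fact (Nat.Prime 2) := ⟨Nat.prime_two⟩
  rintro ⟨P, N, hN, hc⟩
  have hidx : N.index = Nat.card (P : Subgroup (SL2 K)) := hc.symm.index_eq_card
  obtain ⟨k, hk⟩ := P.2.exists_card_eq
  have key : ∀ u : SL2 K, u ^ Nat.card K = 1 → u ∈ N := by
    intro u hu
    have h1 : (QuotientGroup.mk' N u) ^ Nat.card K = 1 := by rw [← map_pow, hu, map_one]
    have h3 : (QuotientGroup.mk' N u) ^ (2 ^ k) = 1 := by
      rw [← hk, ← hidx]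
      exact pow_card_eq_one'
    have h4 : orderOf (QuotientGroup.mk' N u) = 1 := by
      have h5 := Nat.dvd_gcd (orderOf_dvd_of_pow_eq_one h1) (orderOf_dvd_of_pow_eq_one h3)
      have h6 : Nat.Coprime (Nat.card K) (2 ^ k) := Nat.Coprime.pow_right _ (odd_card h2).coprime_two_right
      rw [h6] at h5
      exact Nat.dvd_one.1 h5
    exact (QuotientGroup.eq_one_iff u).1 (orderOf_eq_one_iff.1 h4)
  have htop : N = ⊤ := by
    rw [Subgroup.eq_top_iff']
    intro x
    obtain ⟨a, b, c, d, rfl⟩ := exists_up_lo x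
    refine N.mul_mem (N.mul_mem (N.mul_mem ?_ ?_) ?_) ?_ <;> apply key
    · rw [up_pow, card_smul, up_zero]
    · rw [lo_pow, card_smul, lo_zero]
    · rw [up_pow, card_smul, up_zero]
    · rw [lo_pow, card_smul, lo_zero]
  have h1 : Nat.card (P : Subgroup (SL2 K)) = 1 := by rw [← hidx, htop, Subgroup.index_top]
  have hd : 2 ∣ Nat.card (SL2 K) := by
    have ho : orderOf (dg (-1 : K) (neg_ne_zero.2 one_ne_zero)) = 2 := by
      refine orderOf_eq_prime ?_ ?_
      · rw [pow_two]
        refine ext_ent ?_ ?_ ?_ ?_ <;> simp [ent_mul]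
      · intro h
        have h5 := congrArg (fun y => ent y 0 0) h
        simp only [dg_00, ent_one_00] at h5
        apply h2
        linear_combination -h5
    rw [← ho]
    exact orderOf_dvd_natCard _
  have h3 := P.ne_bot_of_dvd_card hd
  exact h3 (Subgroup.card_eq_one.1 h1)

end sl

/-- a group containing `SL₂(q)`, `q` odd, has no normal 2-complement -/
theorem not_compl {K : Type*} [Field K] [Finite K] (h2 : (2 : K) ≠ 0) {G : Type*} [Group G] [Finite G]
    (f : SL2 K →* G) (hf : Function.Injective f) : ¬ HasNormalPComplement 2 G := fun h => by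
  have : Fact (Nat.Prime 2) := ⟨Nat.prime_two⟩
  exact not_compl_sl2 h2 (ZJ.hasNormalPComplement_of_injective f hf h)

/-- an element centralized by `SL₂(q)`, `q` odd, has weight 2 -/
theorem wt_two {K : Type*} [Field K] [Finite K] (h2 : (2 : K) ≠ 0) {G : Type*} [Group G] [Finite G]
    (f : SL2 K →* G) (hf : Function.Injective f) {x : G} (hx : ∀ y, f y * x = x * f y) : wt x = 2 := by
  refine wt_eq_two (not_compl h2 (f.codRestrict _ fun y => Subgroup.mem_centralizer_singleton_iff.2 (hx y)) ?_)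
  intro y y' h
  exact hf (congrArg Subtype.val h)

/-- an element `x` of order 4 of weight 2 whose square has weight 2 -/
theorem rich_of {G : Type*} [Group G] {x z : G} (hz : z * z = 1) (hz1 : z ≠ 1) (hx : x * x = z)
    (w1 : wt x = 2) (w2 : wt z = 2) : Rich G := by
  classical
  have oz : orderOf z = 2 := orderOf_eq_prime (by rw [pow_two, hz]) hz1
  have ox : orderOf x = 4 := by
    have : Fact (Nat.Prime 2) := ⟨Nat.prime_two⟩
    refine (orderOf_eq_prime_pow (p := 2) (n := 1) ?_ ?_).trans (by norm_num)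
    · rw [pow_one, pow_two, hx]
      exact hz1
    · rw [show 2 ^ (1 + 1) = 2 * 2 by norm_num, pow_mul, pow_two (x ^ 2), pow_two, hx, hz]
  have hne : x ≠ z := fun h => by rw [h, oz] at ox; omega
  refine ⟨{x, z}, ?_, ?_, ?_⟩
  · intro y hy
    simp only [Finset.mem_insert, Finset.mem_singleton] at hy
    rcases hy with rfl | rfl
    · refine ⟨⟨2, by rw [ox]; norm_num⟩, ?_⟩
      rintro rfl
      rw [orderOf_one] at ox
      omega
    · exact ⟨⟨1, by rw [oz]; norm_num⟩, hz1⟩
  · intro y hy y' hy' ho _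
    simp only [Finset.mem_insert, Finset.mem_singleton] at hy hy'
    rcases hy with rfl | rfl <;> rcases hy' with rfl | rfl
    · rfl
    · rw [ox, oz] at ho
      omega
    · rw [ox, oz] at ho
      omega
    · rfl
  · rw [Finset.sum_pair hne, w1, w2]

/-- groups of type `G₂`, `³D₄` -/
theorem rich_hex {E : Type*} [Field E] [Finite E] {σ : E ≃+* E} {L : Type*} [Group L] [Finite L] (c : HexGrp σ L)
    (h2 : (2 : E) ≠ 0) : Rich L := by
  have h2' : (2 : ↥(fx σ)) ≠ 0 := fun h => h2 (congrArg Subtype.val h)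
  have hw : wm (1 : E) one_ne_zero * wm 1 one_ne_zero = dg (-1) (neg_ne_zero.2 one_ne_zero) := by
    refine ext_ent ?_ ?_ ?_ ?_ <;> simp [ent_mul]
  refine rich_of (z := c.z) (x := c.pb (wm 1 one_ne_zero)) c.z_sq (c.z_ne h2) ?_ ?_ ?_
  · rw [← map_mul, hw]
    rfl
  · exact wt_two h2' c.p4 c.p4_inj fun y => (c.comm_pb_p4 _ y).symm
  · exact wt_two h2' c.p4 c.p4_inj fun y => (c.z_p4 y).symm

theorem two_ne {F : Type*} [Field F] [Fintype F] (h : Odd (Fintype.card F)) : (2 : F) ≠ 0 := by
  intro h2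
  have h1 : ringChar F = 2 := by
    have h3 : ringChar F ∣ 2 := (ringChar.spec F 2).1 (by exact_mod_cast h2)
    have h4 : (ringChar F).Prime := CharP.char_is_prime F (ringChar F)
    exact (Nat.prime_dvd_prime_iff_eq h4 Nat.prime_two).1 h3
  have h3 := FiniteField.even_card_iff_char_two.1 h1
  rw [Nat.odd_iff] at h
  omega

theorem rich_g2 {S : Type*} [Group S] [Finite S] (h : IsG2odd S) : Rich S := by
  obtain ⟨F, _, _, ho, ⟨e⟩⟩ := h
  have : Finite ↥(Lie.chevG2.group F) := Finite.of_equiv _ e.toEquiv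
  exact (rich_hex (Cit.HexG2.g2 F (two_ne ho)) (two_ne ho)).congr e.symm

theorem rich_d4 {S : Type*} [Group S] [Finite S] (h : IsD4odd S) : Rich S := by
  obtain ⟨K, _, _, q, hq, hK, ⟨e⟩⟩ := h
  have : Finite ↥(Lie.twistedD4 K q) := Finite.of_equiv _ e.toEquiv
  obtain ⟨σ, -, ⟨c⟩⟩ := Cit.HexD4.exists_d4 hK
  exact (rich_hex c (two_ne (by rw [hK]; exact hq.pow))).congr e.symm

end Cfsg.Agent.H234.K5
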